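import Mathlib
import Cfsg.Agent.Classical.Misc.SylowLargePrime

/-!
# Sylow subgroups of `GL n q` in cross characteristic: iterated wreath products and their derived length
-/

set_option autoImplicit false
set_option linter.unusedSectionVars false
set_option linter.style.haveILetI false

namespace Cfsg.Lib.GLDerived

open scoped commutatorElement
open Subgroup

section Wreath

variable {D Q : Type*} [Group D] [Group Q]

/-- The base group of a regular wreath product. -/
def base : (Q → D) →* D ≀ᵣ Q where
  toFun f := ⟨f, 1⟩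
  map_one' := rfl
  map_mul' f g := by ext <;> simp

theorem derivedSeries_pi_le {ι : Type*} (n : ℕ) (hD : derivedSeries D n = ⊥) :
    derivedSeries (ι → D) n = ⊥ := by
  rw [eq_bot_iff]
  intro f hf
  rw [mem_bot]
  funext i
  have := map_derivedSeries_le_derivedSeries (Pi.evalMonoidHom (fun _ : ι => D) i) n (mem_map_of_mem _ hf)
  rwa [hD, mem_bot] at this

theorem derivedSeries_wreath_le (hQ : ∀ a b : Q, a * b = b * a) :
    ∀ j : ℕ, derivedSeries (D ≀ᵣ Q) (j + 1) ≤ (derivedSeries (Q → D) j).map base
  | 0 => by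
    intro x hx
    have h1 := map_derivedSeries_le_derivedSeries (RegularWreathProduct.rightHom : D ≀ᵣ Q →* Q) 1
      (mem_map_of_mem _ hx)
    have h2 : derivedSeries Q 1 = ⊥ := by
      rw [derivedSeries_succ, derivedSeries_zero, commutator_eq_bot_iff_le_centralizer]
      intro a _
      exact mem_centralizer_iff.2 fun b _ => hQ b a
    rw [h2, mem_bot] at h1
    exact ⟨x.left, mem_top _, RegularWreathProduct.ext rfl h1.symm⟩
  | j + 1 => by
    rw [derivedSeries_succ (D ≀ᵣ Q) (j + 1), derivedSeries_succ (Q → D) j, map_commutator]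
    exact commutator_mono (derivedSeries_wreath_le hQ j) (derivedSeries_wreath_le hQ j)

theorem derivedSeries_wreath_bot (hQ : ∀ a b : Q, a * b = b * a) (n : ℕ) (hD : derivedSeries D n = ⊥) :
    derivedSeries (D ≀ᵣ Q) (n + 1) = ⊥ := by
  rw [eq_bot_iff]
  exact (derivedSeries_wreath_le hQ n).trans (by rw [derivedSeries_pi_le n hD, Subgroup.map_bot])

theorem le_derivedSeries_wreath [Nontrivial Q] :
    ∀ j : ℕ, derivedSeries D j ≤
      ((derivedSeries (D ≀ᵣ Q) (j + 1)).comap base).map (Pi.evalMonoidHom (fun _ : Q => D) 1)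
  | 0 => by
    classical
    intro b _
    obtain ⟨t, ht⟩ := exists_ne (1 : Q)
    refine ⟨fun x => Pi.mulSingle (M := fun _ : Q => D) 1 b x * (Pi.mulSingle (M := fun _ : Q => D) 1 b (t⁻¹ * x))⁻¹, ?_, ?_⟩
    · show base _ ∈ derivedSeries (D ≀ᵣ Q) 1
      rw [derivedSeries_succ, derivedSeries_zero]
      convert commutator_mem_commutator (mem_top (base (Pi.mulSingle (M := fun _ : Q => D) 1 b) : D ≀ᵣ Q))
        (mem_top (RegularWreathProduct.inl t)) using 1
      rw [commutatorElement_def]
      ext x <;> simp [base]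
    · have h1 : t⁻¹ * (1 : Q) ≠ 1 := by simpa using ht
      show Pi.mulSingle (M := fun _ : Q => D) 1 b 1 * (Pi.mulSingle (M := fun _ : Q => D) 1 b (t⁻¹ * 1))⁻¹ = b
      rw [Pi.mulSingle_eq_same, Pi.mulSingle_eq_of_ne h1, inv_one, mul_one]
  | j + 1 => by
    rw [derivedSeries_succ D j]
    refine (commutator_mono (le_derivedSeries_wreath j) (le_derivedSeries_wreath j)).trans ?_
    rw [← map_commutator]
    refine map_mono ?_
    rw [← map_le_iff_le_comap, map_commutator, derivedSeries_succ _ (j + 1)]
    exact commutator_mono (map_comap_le _ _) (map_comap_le _ _)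

theorem derivedSeries_wreath_ne_bot [Nontrivial Q] (n : ℕ) (hD : derivedSeries D n ≠ ⊥) :
    derivedSeries (D ≀ᵣ Q) (n + 1) ≠ ⊥ := by
  intro h
  refine hD (eq_bot_iff.2 ((le_derivedSeries_wreath (Q := Q) n).trans ?_))
  rw [h, MonoidHom.comap_bot]
  rintro _ ⟨f, hf, rfl⟩
  have : (base f : D ≀ᵣ Q) = 1 := hf
  rw [mem_bot]
  exact congrFun (congrArg RegularWreathProduct.left this) 1

theorem derivedSeries_prod_bot (n : ℕ) (hD : derivedSeries D n = ⊥) (hQ : derivedSeries Q n = ⊥) :
    derivedSeries (D × Q) n = ⊥ := by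
  rw [eq_bot_iff]
  intro x hx
  have h1 := map_derivedSeries_le_derivedSeries (MonoidHom.fst D Q) n (mem_map_of_mem _ hx)
  have h2 := map_derivedSeries_le_derivedSeries (MonoidHom.snd D Q) n (mem_map_of_mem _ hx)
  rw [hD, mem_bot] at h1
  rw [hQ, mem_bot] at h2
  exact mem_bot.2 (Prod.ext h1 h2)

end Wreath

section Rep

variable {F : Type*} [Field F]

theorem exists_wreath_rep {D Q : Type*} [Group D] [Group Q] [Finite Q] {m N : ℕ} (hm : 0 < m)
    (hN : Nat.card Q * m = N) (φ : D →* Module.End F (Fin m → F)) (hφ : Function.Injective φ) :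
    ∃ ψ : D ≀ᵣ Q →* Module.End F (Fin N → F), Function.Injective ψ := by
  classical
  haveI := Fintype.ofFinite Q
  have hu : ∀ (d : D) (v : Fin m → F), φ d⁻¹ (φ d v) = v := fun d v => by
    rw [← Module.End.mul_apply, ← map_mul, inv_mul_cancel, map_one, Module.End.one_apply]
  let ψ : D ≀ᵣ Q →* Module.End F (Q → Fin m → F) :=
    { toFun := fun g =>
        { toFun := fun f i => φ (g.left i) (f (g.right⁻¹ * i))
          map_add' := fun f₁ f₂ => by funext i; exact map_add _ _ _
          map_smul' := fun c f => by funext i; exact (φ _).map_smul _ _ }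
      map_one' := by
        refine LinearMap.ext fun f => funext fun i => ?_
        simp
      map_mul' := fun a b => by
        refine LinearMap.ext fun f => funext fun i => ?_
        simp [mul_assoc] }
  have hψ : Function.Injective ψ := by
    intro g h e
    have hl : g.left = h.left := by
      funext i
      refine hφ (LinearMap.ext fun v => ?_)
      exact congrFun (LinearMap.congr_fun e (fun _ => v)) i
    refine RegularWreathProduct.ext hl ?_
    by_contra hne
    have h1 : h.right⁻¹ * 1 ≠ g.right⁻¹ * 1 := by simpa using fun e' : h.right = g.right => hne e'.symm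
    have h2 := congrFun (LinearMap.congr_fun e (Pi.single (g.right⁻¹ * 1) (fun _ => (1 : F)))) 1
    change φ (g.left 1) ((Pi.single (g.right⁻¹ * 1) (fun _ => (1 : F)) : Q → Fin m → F) (g.right⁻¹ * 1)) =
      φ (h.left 1) ((Pi.single (g.right⁻¹ * 1) (fun _ => (1 : F)) : Q → Fin m → F) (h.right⁻¹ * 1)) at h2
    rw [Pi.single_eq_same, Pi.single_eq_of_ne h1, map_zero] at h2
    have h3 := congrArg (φ (g.left 1)⁻¹) h2
    rw [hu, map_zero] at h3
    exact one_ne_zero (congrFun h3 ⟨0, hm⟩)
  have hfin : Module.finrank F (Q → Fin m → F) = Module.finrank F (Fin N → F) := by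
    rw [Module.finrank_pi_fintype, Module.finrank_fin_fun, Module.finrank_fin_fun, Finset.sum_const,
      Finset.card_univ, smul_eq_mul, ← hN, Nat.card_eq_fintype_card]
  let e : (Q → Fin m → F) ≃ₗ[F] (Fin N → F) := LinearEquiv.ofFinrankEq _ _ hfin
  exact ⟨e.conjRingEquiv.toMonoidHom.comp ψ, fun a b h => hψ (e.conjRingEquiv.injective h)⟩

theorem exists_prod_rep {D E : Type*} [Group D] [Group E] {a b N : ℕ} (hN : a + b = N)
    (φ : D →* Module.End F (Fin a → F)) (hφ : Function.Injective φ)
    (ψ : E →* Module.End F (Fin b → F)) (hψ : Function.Injective ψ) :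
    ∃ χ : D × E →* Module.End F (Fin N → F), Function.Injective χ := by
  let χ : D × E →* Module.End F ((Fin a → F) × (Fin b → F)) :=
    { toFun := fun x => LinearMap.prodMap (φ x.1) (ψ x.2)
      map_one' := by simp
      map_mul' := fun x y => by
        refine LinearMap.ext fun v => ?_
        simp }
  have hχ : Function.Injective χ := by
    intro x y h
    refine Prod.ext (hφ (LinearMap.ext fun v => ?_)) (hψ (LinearMap.ext fun v => ?_))
    · exact congrArg Prod.fst (LinearMap.congr_fun h (v, 0))
    · exact congrArg Prod.snd (LinearMap.congr_fun h (0, v))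
  have hfin : Module.finrank F ((Fin a → F) × (Fin b → F)) = Module.finrank F (Fin N → F) := by
    rw [Module.finrank_prod, Module.finrank_fin_fun, Module.finrank_fin_fun, Module.finrank_fin_fun, hN]
  let e : ((Fin a → F) × (Fin b → F)) ≃ₗ[F] (Fin N → F) := LinearEquiv.ofFinrankEq _ _ hfin
  exact ⟨e.conjRingEquiv.toMonoidHom.comp χ, fun x y h => hχ (e.conjRingEquiv.injective h)⟩

/-- There is a faithfully represented `p`-group of dimension `d * w`, of order `p ^ (a * w + v(w!))`
and of derived length exactly `log p w + 1`. -/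
def Datum (F : Type*) [Field F] (p d a w : ℕ) : Prop :=
  ∃ (G : Type) (_ : Group G) (φ : G →* Module.End F (Fin (d * w) → F)),
    Function.Injective φ ∧ Nat.card G = p ^ (a * w + padicValNat p w.factorial) ∧
      derivedSeries G (Nat.log p w + 1) = ⊥ ∧ (1 ≤ w → derivedSeries G (Nat.log p w) ≠ ⊥)

variable {p : ℕ} [hp : Fact p.Prime]

theorem val_factorial_pow_succ (k : ℕ) :
    padicValNat p (p ^ (k + 1)).factorial = p * padicValNat p (p ^ k).factorial + 1 := by
  induction k with
  | zero =>
    rw [pow_zero, Nat.factorial_one, padicValNat.one, mul_zero, zero_add, pow_succ, pow_zero, one_mul]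
    have := padicValNat_factorial_mul (p := p) 1
    rw [mul_one, Nat.factorial_one, padicValNat.one, zero_add] at this
    exact this
  | succ k ih =>
    have h1 := padicValNat_factorial_mul (p := p) (p ^ k)
    rw [← pow_succ'] at h1
    conv_lhs => rw [pow_succ' p (k + 1), padicValNat_factorial_mul, ih]
    rw [h1, pow_succ']
    ring

theorem datum_pow {d a : ℕ} (hd : 0 < d) (h1 : Datum F p d a 1) : ∀ k : ℕ, Datum F p d a (p ^ k)
  | 0 => by rwa [pow_zero]
  | k + 1 => by
    obtain ⟨G, _, φ, hφ, hc, hb, hn⟩ := datum_pow hd h1 k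
    have hcQ : Nat.card (Multiplicative (ZMod p)) = p := by
      rw [Nat.card_congr Multiplicative.toAdd, Nat.card_zmod]
    haveI : Finite (Multiplicative (ZMod p)) := Nat.finite_of_card_ne_zero (by rw [hcQ]; exact hp.out.ne_zero)
    haveI : Nontrivial (Multiplicative (ZMod p)) :=
      Finite.one_lt_card_iff_nontrivial.1 (by rw [hcQ]; exact hp.out.one_lt)
    have hlog : ∀ j, Nat.log p (p ^ j) = j := fun j => Nat.log_pow hp.out.one_lt j
    obtain ⟨ψ, hψ⟩ := exists_wreath_rep (Q := Multiplicative (ZMod p)) (N := d * p ^ (k + 1))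
      (Nat.mul_pos hd (pow_pos hp.out.pos k)) (by rw [hcQ, pow_succ']; ring) φ hφ
    refine ⟨G ≀ᵣ Multiplicative (ZMod p), inferInstance, ψ, hψ, ?_, ?_, fun _ => ?_⟩
    · rw [RegularWreathProduct.card, hc, hcQ, ← pow_mul, ← pow_succ, val_factorial_pow_succ]
      congr 1
      ring
    · rw [hlog]
      refine derivedSeries_wreath_bot mul_comm (k + 1) ?_
      rwa [hlog] at hb
    · rw [hlog]
      refine derivedSeries_wreath_ne_bot k ?_
      have := hn (Nat.one_le_pow _ _ hp.out.pos)
      rwa [hlog] at this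

theorem datum_all {d a : ℕ} (hd : 0 < d) (h1 : Datum F p d a 1) : ∀ w : ℕ, Datum F p d a w := by
  intro w
  induction w using Nat.strong_induction_on with
  | _ w ih =>
    rcases Nat.eq_zero_or_pos w with rfl | hw
    · refine ⟨PUnit, inferInstance, 1, fun x y _ => Subsingleton.elim x y, by simp, ?_, fun h => absurd h (by norm_num)⟩
      exact Subsingleton.elim _ _
    set k := Nat.log p w with hk
    have hle : p ^ k ≤ w := Nat.pow_log_le_self p hw.ne'
    rcases eq_or_lt_of_le hle with heq | hlt
    · rw [← heq]; exact datum_pow hd h1 k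
    obtain ⟨G, _, φ, hφ, hcG, hbG, hnG⟩ := datum_pow hd h1 k
    obtain ⟨H, _, ψ, hψ, hcH, hbH, -⟩ := ih (w - p ^ k) (Nat.sub_lt hw (pow_pos hp.out.pos k))
    obtain ⟨χ, hχ⟩ := exists_prod_rep (N := d * w) (by rw [← Nat.mul_add, Nat.add_sub_cancel' hle]) φ hφ ψ hψ
    have hlog : Nat.log p (p ^ k) = k := Nat.log_pow hp.out.one_lt k
    rw [hlog] at hbG hnG
    refine ⟨G × H, inferInstance, χ, hχ, ?_, ?_, fun _ hbot => ?_⟩
    · rw [Nat.card_prod, hcG, hcH, ← pow_add]
      congr 1
      have hch : padicValNat p (w.choose (p ^ k)) = 0 := by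
        rw [padicValNat_choose hle (Nat.lt_succ_self _), Finset.card_eq_zero, Finset.filter_eq_empty_iff]
        intro i hi
        rw [Finset.mem_Ico] at hi
        have hik : i ≤ k := Nat.lt_succ_iff.1 hi.2
        have h0 : p ^ k % p ^ i = 0 := Nat.mod_eq_zero_of_dvd (pow_dvd_pow p hik)
        rw [h0, zero_add, not_le]
        exact Nat.mod_lt _ (pow_pos hp.out.pos i)
      have hval : padicValNat p w.factorial =
          padicValNat p (p ^ k).factorial + padicValNat p (w - p ^ k).factorial := by
        rw [← Nat.choose_mul_factorial_mul_factorial hle,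
          padicValNat.mul (Nat.mul_ne_zero (Nat.choose_pos hle).ne' (Nat.factorial_ne_zero _)) (Nat.factorial_ne_zero _),
          padicValNat.mul (Nat.choose_pos hle).ne' (Nat.factorial_ne_zero _), hch, zero_add]
      have hmul : a * w = a * p ^ k + a * (w - p ^ k) := by rw [← Nat.mul_add, Nat.add_sub_cancel' hle]
      omega
    · refine derivedSeries_prod_bot _ hbG (eq_bot_iff.2 (le_trans (derivedSeries_antitone H ?_) hbH.le))
      exact Nat.succ_le_succ (hk ▸ Nat.log_mono_right (Nat.sub_le w _))
    · refine hnG (Nat.one_le_pow _ _ hp.out.pos) (eq_bot_iff.2 fun x hx => ?_)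
      have := map_derivedSeries_le_derivedSeries (MonoidHom.inl G H) k (mem_map_of_mem _ hx)
      rw [← hk] at hbot
      rw [hbot, mem_bot] at this
      exact mem_bot.2 (congrArg Prod.fst this)

end Rep

section GLSection

open Cfsg.Lib.SylowLarge

variable {p : ℕ} [hp : Fact p.Prime] {q : ℕ}

theorem val_gl_prod_all (hp2 : p ≠ 2) (hq : 2 ≤ q) (hpq : ¬ p ∣ q) :
    ∀ n : ℕ, padicValNat p (∏ i : Fin n, (q ^ n - q ^ (i : ℕ))) =
      n / orderOf (q : ZMod p) * expo p q + padicValNat p (n / orderOf (q : ZMod p)).factorial := by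
  intro n
  induction n with
  | zero => simp
  | succ n ih =>
    have hne : ∏ i : Fin n, (q ^ n - q ^ (i : ℕ)) ≠ 0 := Finset.prod_ne_zero_iff.2 fun i _ => by
      have := Nat.pow_lt_pow_right (by omega : 1 < q) i.isLt
      omega
    have h1 : q ^ (n + 1) - 1 ≠ 0 := by
      have := Nat.one_lt_pow (by omega : n + 1 ≠ 0) (by omega : 1 < q)
      omega
    have hqn : q ^ n ≠ 0 := pow_ne_zero _ (by omega)
    rw [gl_prod_succ, padicValNat.mul h1 (mul_ne_zero hqn hne), padicValNat.mul hqn hne, ih,
      padicValNat.eq_zero_of_not_dvd (fun h => hpq (hp.out.dvd_of_dvd_pow h)), zero_add, Nat.succ_div]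
    set d := orderOf (q : ZMod p) with hd
    have hd0 : 0 < d := ord_pos hpq
    by_cases hdn : d ∣ n + 1
    · rw [if_pos hdn]
      have hk : n + 1 = d * (n / d + 1) := by
        have h := Nat.succ_div_of_dvd hdn
        rw [← h, Nat.mul_div_cancel' hdn]
      have hval : padicValNat p (q ^ (n + 1) - 1) = expo p q + padicValNat p (n / d + 1) := by
        rw [hk, pow_mul]
        have hqd := Nat.one_lt_pow hd0.ne' (by omega : 1 < q)
        have := padicValNat.pow_sub_pow (hp.out.odd_of_ne_two hp2) (x := q ^ d) (y := 1) hqd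
          ((dvd_pow_sub_one_iff (by omega) d).2 dvd_rfl) (fun h => hpq (hp.out.dvd_of_dvd_pow h))
          (n := n / d + 1) (Nat.succ_ne_zero _)
        rw [one_pow] at this
        rw [this, expo_eq hq hpq]
      rw [hval, Nat.factorial_succ, padicValNat.mul (Nat.succ_ne_zero _) (Nat.factorial_ne_zero _)]
      ring
    · rw [if_neg hdn, add_zero, padicValNat.eq_zero_of_not_dvd
        (fun h => hdn ((dvd_pow_sub_one_iff (by omega) _).1 h)), zero_add]

theorem exists_sylow_model (hp2 : p ≠ 2) {F : Type*} [Field F] [Fintype F] (hq : Fintype.card F = q)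
    (hpq : ¬ p ∣ q) (n : ℕ) (hn : orderOf (q : ZMod p) ≤ n) :
    ∃ (G : Type) (_ : Group G) (φ : G →* GL (Fin n) F), Function.Injective φ ∧
      Nat.card G = p ^ padicValNat p (Nat.card (GL (Fin n) F)) ∧
      derivedSeries G (Nat.log p (n / orderOf (q : ZMod p)) + 1) = ⊥ ∧
      derivedSeries G (Nat.log p (n / orderOf (q : ZMod p))) ≠ ⊥ := by
  classical
  set d := orderOf (q : ZMod p) with hd
  have hq2 : 2 ≤ q := hq ▸ two_le_card F
  have hd0 : 0 < d := ord_pos hpq
  haveI : NeZero d := ⟨hd0.ne'⟩
  obtain ⟨r, hr⟩ := CharP.exists F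
  haveI : Fact r.Prime := ⟨CharP.char_is_prime F r⟩
  let K := FiniteField.Extension F r d
  have hcK : Nat.card K = q ^ d := by rw [FiniteField.natCard_extension, Nat.card_eq_fintype_card, hq]
  haveI : Finite K := Nat.finite_of_card_ne_zero (by rw [hcK]; exact pow_ne_zero _ (by omega))
  have hdvd : p ^ expo p q ∣ Nat.card Kˣ := by
    rw [Nat.card_units, hcK, expo_eq hq2 hpq]
    exact pow_padicValNat_dvd
  have ha : 1 ≤ expo p q := by
    rw [expo_eq hq2 hpq, ← hd]
    refine one_le_padicValNat_of_dvd ?_ ((dvd_pow_sub_one_iff (by omega) d).2 dvd_rfl)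
    have := Nat.one_lt_pow hd0.ne' (by omega : 1 < q)
    omega
  obtain ⟨c, hc⟩ := exists_cyclicHom hdvd
  have h1 : Datum F p d (expo p q) 1 := by
    have hfin : Module.finrank F K = Module.finrank F (Fin (d * 1) → F) := by
      rw [FiniteField.finrank_extension, Module.finrank_fin_fun, mul_one]
    let e : K ≃ₗ[F] (Fin (d * 1) → F) := LinearEquiv.ofFinrankEq _ _ hfin
    let φ : Multiplicative (ZMod (p ^ expo p q)) →* Module.End F (Fin (d * 1) → F) :=
      e.conjRingEquiv.toMonoidHom.comp ((Algebra.lmul F K).toMonoidHom.comp ((Units.coeHom K).comp c))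
    have hcard : Nat.card (Multiplicative (ZMod (p ^ expo p q))) = p ^ expo p q := by
      rw [Nat.card_congr Multiplicative.toAdd, Nat.card_zmod]
    refine ⟨_, inferInstance, φ, ?_, ?_, ?_, fun _ => ?_⟩
    · intro x y h
      refine hc (Units.ext ?_)
      have h2 := LinearMap.congr_fun (e.conjRingEquiv.injective h) (1 : K)
      simpa using h2
    · rw [hcard, Nat.factorial_one, padicValNat.one, add_zero, mul_one]
    · rw [Nat.log_one_right, derivedSeries_succ, derivedSeries_zero, commutator_eq_bot_iff_le_centralizer]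
      intro x _
      exact mem_centralizer_iff.2 fun y _ => mul_comm y x
    · rw [Nat.log_one_right, derivedSeries_zero]
      intro h
      have := congrArg (fun H : Subgroup (Multiplicative (ZMod (p ^ expo p q))) => Nat.card H) h
      simp only [card_top, card_bot, hcard] at this
      exact (Nat.one_lt_pow (by omega) hp.out.one_lt).ne' this
  obtain ⟨G, _, φ, hφ, hcG, hb, hne⟩ := datum_all (F := F) hd0 h1 (n / d)
  obtain ⟨χ, hχ⟩ := exists_prod_rep (E := PUnit.{1}) (a := d * (n / d)) (b := n - d * (n / d)) (N := n)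
    (Nat.add_sub_cancel' (Nat.mul_div_le n d)) φ hφ 1 (fun x y _ => Subsingleton.elim x y)
  let ψ : G →* GL (Fin n) F :=
    (((LinearMap.toMatrixAlgEquiv' (R := F) (n := Fin n)).toMonoidHom).comp (χ.comp (MonoidHom.inl G PUnit.{1}))).toHomUnits
  refine ⟨G, inferInstance, ψ, fun x y h => ?_, ?_, hb, hne ((Nat.one_le_div_iff hd0).2 hn)⟩
  · have h2 := hχ ((LinearMap.toMatrixAlgEquiv' (R := F) (n := Fin n)).injective (congrArg Units.val h))
    exact congrArg Prod.fst h2
  · rw [hcG, Matrix.card_GL_field, hq, val_gl_prod_all hp2 hq2 hpq n, ← hd, mul_comm (expo p q)]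

end GLSection

end Cfsg.Lib.GLDerived
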