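import Cfsg.Agent.Classical.WreathSylowTwo.Pair
import Cfsg.Agent.SymSylow.GLDerived
import Cfsg.Agent.Classical.Symp.Matrix

/-!
# Sylow 2-subgroups of symplectic groups in odd characteristic: derived length
-/

set_option autoImplicit false
set_option linter.unusedSectionVars false
set_option linter.style.haveILetI false
set_option linter.unreachableTactic false
set_option linter.unusedTactic false

namespace Cfsg.Lib.SpDerived

open Matrix Subgroup Cfsg.Lib.OrthSylowTwo Cfsg.Lib.WreathSylowTwo Cfsg.Lib.GLDerived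
open scoped commutatorElement

variable {F : Type*} [Field F] [Fintype F] [DecidableEq F]

theorem exists_sl_meta (hF : Odd (Fintype.card F)) :
    ∃ D : Subgroup (SpecialLinearGroup (Fin 2) F), Nat.card D = 2 ^ padicValNat 2 (Fintype.card F ^ 2 - 1) ∧
      derivedSeries ↥D 2 = ⊥ ∧ derivedSeries ↥D 1 ≠ ⊥ := by
  haveI : Fact (Nat.Prime 2) := ⟨Nat.prime_two⟩
  have h2 : (2 : F) ≠ 0 := Cfsg.Lib.Classical.Refl.two_ne_zero_of_odd hF
  obtain ⟨S, hSR, hS2, hSc, hSmem⟩ := exists_two_part (rotSL (F := F)) rotSL_comm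
  obtain ⟨a, b, hab⟩ := exists_neg_one_sum (F := F)
  let w : SpecialLinearGroup (Fin 2) F := ⟨!![a, b; b, -a], by rw [Matrix.det_fin_two_of]; linear_combination -hab⟩
  let j : SpecialLinearGroup (Fin 2) F := ⟨rot 0 1, by rw [det_rot]; ring⟩
  have hw2 : w * w = j * j := Subtype.ext (by
    show !![a, b; b, -a] * !![a, b; b, -a] = rot (0 : F) 1 * rot 0 1
    ext i j
    fin_cases i <;> fin_cases j <;> simp [rot, Matrix.mul_apply, Fin.sum_univ_two] <;>
      first | ring1 | linear_combination hab)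
  have hne : ((w * w : SpecialLinearGroup (Fin 2) F) : Matrix (Fin 2) (Fin 2) F) 0 0 = -1 := by
    rw [hw2]; show ((rot (0 : F) 1 * rot 0 1 : Matrix (Fin 2) (Fin 2) F)) 0 0 = -1; rw [rot_mul]; simp [rot]
  have hw22 : w * w ≠ 1 := fun h => neg_one_ne_one h2 (Units.ext (by
    rw [h] at hne; simpa using hne.symm))
  have hjj : j * j * (j * j) = 1 := Subtype.ext (by
    show rot (0 : F) 1 * rot 0 1 * (rot 0 1 * rot 0 1) = 1
    rw [rot_mul, rot_mul, ← rot_one]; congr 1 <;> ring)
  have hjS : j ∈ S := hSmem j ⟨0, 1, rfl⟩ 2 (by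
    rw [show (2 : ℕ) ^ 2 = 2 + 2 from rfl, pow_add, pow_two]; exact hjj)
  have hinv : ∀ r ∈ rotSL (F := F), w * r * w⁻¹ = r⁻¹ := by
    intro r hr
    rw [mul_inv_eq_iff_eq_mul]
    obtain ⟨x, y, hxy⟩ := hr
    refine Subtype.ext ?_
    show (w : Matrix (Fin 2) (Fin 2) F) * (r : Matrix (Fin 2) (Fin 2) F) = Matrix.adjugate (r : Matrix (Fin 2) (Fin 2) F) * (w : Matrix (Fin 2) (Fin 2) F)
    rw [hxy]
    ext i j
    fin_cases i <;> fin_cases j <;> simp [w, rot, Matrix.adjugate_fin_two, Matrix.mul_apply, Fin.sum_univ_two] <;> ring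
  have hTS : zpowers w ≤ normalizer (S : Set (SpecialLinearGroup (Fin 2) F)) := by
    rw [zpowers_le, mem_normalizer_iff]
    intro r
    constructor
    · intro hr; rw [hinv r (hSR hr)]; exact inv_mem hr
    · intro hr
      have h1 := hinv _ (hSR hr)
      have h2' : w⁻¹ * (w * r * w⁻¹)⁻¹ * w = w * r * w⁻¹ := by
        rw [← h1]; group
      have h3 : r = w⁻¹ * (w * r * w⁻¹) * w := by group
      have h4 : r = (w * r * w⁻¹)⁻¹ := by
        rw [h3]
        have := congrArg (·⁻¹) h2'
        simpa [mul_assoc] using this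
      rw [h4]; exact inv_mem hr
  have hw4 : (w * w) * (w * w) = 1 := by rw [hw2, hjj]
  have hwS : w ∉ S := fun h => by
    have h1 := hinv w (hSR h)
    rw [mul_inv_cancel_right] at h1
    exact hw22 (by nth_rewrite 1 [h1]; rw [inv_mul_cancel])
  have hinf : Nat.card ↥(S ⊓ zpowers w) = 2 := by
    have hord : orderOf w = 4 := orderOf_eq_prime_pow (p := 2) (n := 1)
      (by simpa [pow_two] using hw22) (by
        rw [show (2 : ℕ) ^ (1 + 1) = 2 + 2 from rfl, pow_add, pow_two]; exact hw4)
    have hd : Nat.card ↥(S ⊓ zpowers w) ∣ 4 := by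
      rw [← hord, ← Nat.card_zpowers]; exact card_dvd_of_le inf_le_right
    have hmem : w * w ∈ S ⊓ zpowers w :=
      ⟨hw2 ▸ mul_mem hjS hjS, mul_mem (mem_zpowers w) (mem_zpowers w)⟩
    have h1 : Nat.card ↥(S ⊓ zpowers w) ≠ 1 := fun h =>
      hw22 (Subgroup.mem_bot.mp (eq_bot_of_card_eq _ h ▸ hmem))
    have h4 : Nat.card ↥(S ⊓ zpowers w) ≠ 4 := fun h => hwS
      ((eq_of_le_of_card_ge inf_le_right (by rw [h, Nat.card_zpowers, hord])).ge (mem_zpowers w)).1
    have hle := Nat.le_of_dvd (by norm_num) hd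
    interval_cases hh : Nat.card ↥(S ⊓ zpowers w) <;> simp_all
  set D := S ⊔ zpowers w with hDdef
  have hwD : w ∈ D := mem_sup_right (mem_zpowers w)
  refine ⟨D, ?_, ?_, fun h => ?_⟩
  · have h := Cfsg.Lib.Coprime.card_sup_mul_card_inf hTS
    rw [hinf] at h
    have hord : Nat.card (zpowers w) = 4 := by
      rw [Nat.card_zpowers]
      exact orderOf_eq_prime_pow (p := 2) (n := 1) (by simpa [pow_two] using hw22) (by
        rw [show (2 : ℕ) ^ (1 + 1) = 2 + 2 from rfl, pow_add, pow_two]; exact hw4)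
    rw [hord, hSc] at h
    have hv := plane_valuation hF
    rw [← card_rotSL h2, Nat.factorization_mul (by norm_num) Nat.card_pos.ne', Finsupp.add_apply,
      Nat.Prime.factorization_self Nat.prime_two] at hv
    rw [← hv, pow_add, pow_one]
    change Nat.card ↥D * 2 = _ at h
    omega
  · let S' : Subgroup ↥D := S.subgroupOf D
    have hN : D ≤ normalizer (S : Set (SpecialLinearGroup (Fin 2) F)) := sup_le le_normalizer hTS
    haveI : S'.Normal := Subgroup.normal_subgroupOf_of_le_normalizer hN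
    have hD1 : derivedSeries ↥D 1 ≤ S' := by
      rw [derivedSeries_one]
      let π := QuotientGroup.mk' S'
      have hgen : ∀ y : ↥D ⧸ S', y ∈ zpowers (π ⟨w, hwD⟩) := fun y => by
        obtain ⟨⟨x, hx⟩, rfl⟩ := QuotientGroup.mk'_surjective S' y
        rw [hDdef, ← SetLike.mem_coe, Subgroup.coe_mul_of_right_le_normalizer_left S (zpowers w) hTS] at hx
        obtain ⟨s, hs, t, ⟨k, rfl⟩, rfl⟩ := hx
        refine ⟨k, ?_⟩
        show π ⟨w, hwD⟩ ^ k = π _
        rw [← map_zpow]
        exact (QuotientGroup.mk'_eq_mk' S').2 ⟨⟨w ^ (-k) * s * w ^ k, mul_mem (mul_mem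
          (zpow_mem hwD _) (mem_sup_left hs)) (zpow_mem hwD _)⟩, by
          show _ ∈ S
          have h1 := mem_normalizer_iff.1 (hTS (zpow_mem (mem_zpowers w) (-k))) s
          simpa [_root_.zpow_neg] using h1.1 hs, Subtype.ext (by simp [mul_assoc])⟩
      refine le_trans ?_ (le_of_eq (QuotientGroup.ker_mk' S'))
      rw [_root_.commutator_def, Subgroup.commutator_le]
      intro x _ y _
      obtain ⟨a, ha⟩ := hgen (π x)
      obtain ⟨b, hb⟩ := hgen (π y)
      change π ⟨w, hwD⟩ ^ a = π x at ha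
      change π ⟨w, hwD⟩ ^ b = π y at hb
      rw [MonoidHom.mem_ker, map_commutatorElement, commutatorElement_eq_one_iff_mul_comm]
      show π x * π y = π y * π x
      rw [← ha, ← hb, ← _root_.zpow_add, ← _root_.zpow_add, add_comm]
    rw [derivedSeries_succ, eq_bot_iff]
    refine (commutator_mono hD1 hD1).trans (le_of_eq ?_)
    rw [commutator_eq_bot_iff_le_centralizer]
    intro a ha
    exact mem_centralizer_iff.2 fun b hb => Subtype.ext (rotSL_comm _ (hSR hb) _ (hSR ha))
  · have h1 : ⁅(⟨w, hwD⟩ : ↥D), (⟨j, mem_sup_left hjS⟩ : ↥D)⁆ ∈ derivedSeries ↥D 1 := by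
      rw [derivedSeries_one]; exact commutator_mem_commutator (mem_top _) (mem_top _)
    rw [h, Subgroup.mem_bot] at h1
    have h2' := congrArg Subtype.val h1
    push_cast [commutatorElement_def] at h2'
    rw [hinv j (hSR hjS), ← _root_.mul_inv_rev, inv_eq_one] at h2'
    exact hw22 (hw2.trans h2')

/-- The form on a sum of planes. -/
def om {ι : Type*} [Fintype ι] (u v : ι → Fin 2 → F) : F := ∑ i, (u i 0 * v i 1 - u i 1 * v i 0)

/-- A faithful representation by isometries of a sum of planes. -/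
def SRep (F : Type*) [Field F] [Fintype F] [DecidableEq F] (G : Type*) [Group G] (ι : Type*) [Fintype ι] : Prop :=
  ∃ φ : G →* Module.End F (ι → Fin 2 → F), Function.Injective φ ∧ ∀ g u v, om (φ g u) (φ g v) = om u v

theorem SRep.reindex {G ι κ : Type*} [Group G] [Fintype ι] [Fintype κ] (h : SRep F G ι) (e : ι ≃ κ) : SRep F G κ := by
  obtain ⟨φ, hφ, hom'⟩ := h
  let L : (ι → Fin 2 → F) ≃ₗ[F] (κ → Fin 2 → F) := (LinearEquiv.funCongrLeft F (Fin 2 → F) e).symm
  refine ⟨L.conjRingEquiv.toMonoidHom.comp φ, fun a b h' => hφ (L.conjRingEquiv.injective h'), fun g u v => ?_⟩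
  show om (fun k => φ g (L.symm u) (e.symm k)) (fun k => φ g (L.symm v) (e.symm k)) = om u v
  have hsum : ∀ u v : κ → Fin 2 → F, om (fun i => u (e i)) (fun i => v (e i)) = om u v := fun u v =>
    e.sum_comp fun k => u k 0 * v k 1 - u k 1 * v k 0
  rw [← hsum]
  simp only [Equiv.symm_apply_apply]
  rw [hom', ← hsum u v]
  rfl

theorem SRep.wreath {G Q ι : Type*} [Group G] [Group Q] [Fintype Q] [Fintype ι] [Nonempty ι] (h : SRep F G ι) :
    SRep F (G ≀ᵣ Q) (Q × ι) := by
  classical
  obtain ⟨φ, hφ, hom'⟩ := h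
  let ψ : G ≀ᵣ Q →* Module.End F (Q × ι → Fin 2 → F) :=
    { toFun := fun g =>
        { toFun := fun f x => φ (g.left x.1) (fun l => f (g.right⁻¹ * x.1, l)) x.2
          map_add' := fun f₁ f₂ => by
            funext x
            exact congrFun (map_add (φ (g.left x.1)) (fun l => f₁ (g.right⁻¹ * x.1, l))
              (fun l => f₂ (g.right⁻¹ * x.1, l))) x.2
          map_smul' := fun c f => by
            funext x
            exact congrFun (map_smul (φ (g.left x.1)) c (fun l => f (g.right⁻¹ * x.1, l))) x.2 }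
      map_one' := by
        refine LinearMap.ext fun f => funext fun x => ?_
        simp
      map_mul' := fun a b => by
        refine LinearMap.ext fun f => funext fun x => ?_
        simp [mul_assoc] }
  have hψv : ∀ g f q l, ψ g f (q, l) = φ (g.left q) (fun l' => f (g.right⁻¹ * q, l')) l := fun _ _ _ _ => rfl
  refine ⟨ψ, fun g h e => ?_, fun g u v => ?_⟩
  · have hl : g.left = h.left := by
      funext q
      refine hφ (LinearMap.ext fun v => funext fun l => ?_)
      have := congrFun (LinearMap.congr_fun e (fun x => v x.2)) (q, l)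
      rwa [hψv, hψv] at this
    refine RegularWreathProduct.ext hl ?_
    by_contra hne
    obtain ⟨l₀⟩ := ‹Nonempty ι›
    let f : Q × ι → Fin 2 → F := fun x => if x.1 = g.right⁻¹ * 1 then fun _ => 1 else 0
    have h1 : h.right⁻¹ * 1 ≠ g.right⁻¹ * 1 := by simpa using fun e' : h.right = g.right => hne e'.symm
    have h2 : ∀ l, φ (g.left 1) (fun _ _ => (1 : F)) l = φ (h.left 1) (0 : ι → Fin 2 → F) l := fun l => by
      have := congrFun (LinearMap.congr_fun e f) (1, l)
      rw [hψv, hψv] at this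
      have e1 : (fun l' : ι => f (g.right⁻¹ * 1, l')) = fun _ _ => (1 : F) := funext fun l' => if_pos rfl
      have e2 : (fun l' : ι => f (h.right⁻¹ * 1, l')) = 0 := funext fun l' => if_neg h1
      rw [e1, e2] at this
      exact this
    have h3 : φ (g.left 1) (fun _ _ => (1 : F)) = φ (g.left 1) 0 := by
      rw [map_zero]; exact (funext h2).trans (map_zero _)
    have h4 := congrArg (φ (g.left 1)⁻¹) h3
    rw [← Module.End.mul_apply, ← Module.End.mul_apply, ← map_mul, inv_mul_cancel, map_one, Module.End.one_apply,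
      Module.End.one_apply] at h4
    exact one_ne_zero (congrFun (congrFun h4 l₀) 0)
  · have hprod : ∀ u v : Q × ι → Fin 2 → F,
        om u v = ∑ q : Q, om (fun l => u (q, l)) (fun l => v (q, l)) := fun u v => Fintype.sum_prod_type _
    rw [hprod, hprod u v, ← Equiv.sum_comp (Equiv.mulLeft g.right⁻¹) (fun q => om (fun l => u (q, l)) (fun l => v (q, l)))]
    refine Finset.sum_congr rfl fun q _ => ?_
    have e3 : ∀ w : Q × ι → Fin 2 → F,
        (fun l => ψ g w (q, l)) = φ (g.left q) (fun l => w (Equiv.mulLeft g.right⁻¹ q, l)) := fun w =>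
      funext fun l => hψv g w q l
    rw [e3, e3]
    exact hom' (g.left q) _ _

theorem SRep.prod {G H ι κ : Type*} [Group G] [Group H] [Fintype ι] [Fintype κ] (h : SRep F G ι) (h' : SRep F H κ) :
    SRep F (G × H) (ι ⊕ κ) := by
  obtain ⟨φ, hφ, hom'⟩ := h
  obtain ⟨ψ, hψ, hom''⟩ := h'
  let χ : G × H →* Module.End F (ι ⊕ κ → Fin 2 → F) :=
    { toFun := fun x =>
        { toFun := fun f => Sum.elim (φ x.1 fun i => f (Sum.inl i)) (ψ x.2 fun i => f (Sum.inr i))
          map_add' := fun f₁ f₂ => by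
            funext i; rcases i with i | i
            · exact congrFun (map_add (φ x.1) (fun i => f₁ (Sum.inl i)) (fun i => f₂ (Sum.inl i))) i
            · exact congrFun (map_add (ψ x.2) (fun i => f₁ (Sum.inr i)) (fun i => f₂ (Sum.inr i))) i
          map_smul' := fun c f => by
            funext i; rcases i with i | i
            · exact congrFun (map_smul (φ x.1) c (fun i => f (Sum.inl i))) i
            · exact congrFun (map_smul (ψ x.2) c (fun i => f (Sum.inr i))) i }
      map_one' := by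
        refine LinearMap.ext fun f => funext fun i => ?_
        rcases i with i | i <;> simp
      map_mul' := fun a b => by
        refine LinearMap.ext fun f => funext fun i => ?_
        rcases i with i | i <;> simp }
  refine ⟨χ, fun x y e => Prod.ext (hφ (LinearMap.ext fun v => funext fun i => ?_))
    (hψ (LinearMap.ext fun v => funext fun i => ?_)), fun g u v => ?_⟩
  · exact congrFun (LinearMap.congr_fun e (Sum.elim v 0)) (Sum.inl i)
  · exact congrFun (LinearMap.congr_fun e (Sum.elim 0 v)) (Sum.inr i)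
  · have hsum : ∀ u v : ι ⊕ κ → Fin 2 → F, om u v =
        om (fun i => u (Sum.inl i)) (fun i => v (Sum.inl i)) + om (fun i => u (Sum.inr i)) (fun i => v (Sum.inr i)) :=
      fun u v => Fintype.sum_sum_type _
    rw [hsum, hsum u v]
    exact congrArg₂ (· + ·) (hom' g.1 _ _) (hom'' g.2 _ _)

/-- A model of the Sylow subgroup on `w` planes. -/
def Datum2 (F : Type*) [Field F] [Fintype F] [DecidableEq F] (a w : ℕ) : Prop :=
  ∃ (G : Type) (_ : Group G), SRep F G (Fin w) ∧ Nat.card G = 2 ^ (a * w + padicValNat 2 w.factorial) ∧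
    derivedSeries G (Nat.log 2 w + 2) = ⊥ ∧ (1 ≤ w → derivedSeries G (Nat.log 2 w + 1) ≠ ⊥)

theorem datum2_pow {a : ℕ} (h1 : Datum2 F a 1) : ∀ k : ℕ, Datum2 F a (2 ^ k)
  | 0 => by rwa [pow_zero]
  | k + 1 => by
    haveI : Fact (Nat.Prime 2) := ⟨Nat.prime_two⟩
    obtain ⟨G, _, hφ, hc, hb, hn⟩ := datum2_pow h1 k
    haveI : Nonempty (Fin (2 ^ k)) := ⟨⟨0, pow_pos (by norm_num) k⟩⟩
    have hcQ : Nat.card (Multiplicative (ZMod 2)) = 2 := by
      rw [Nat.card_congr Multiplicative.toAdd, Nat.card_zmod]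
    have hlog : ∀ j, Nat.log 2 (2 ^ j) = j := fun j => Nat.log_pow one_lt_two j
    refine ⟨G ≀ᵣ Multiplicative (ZMod 2), inferInstance, hφ.wreath.reindex (Fintype.equivFinOfCardEq (by
      rw [Fintype.card_prod, Fintype.card_fin, ← Nat.card_eq_fintype_card, hcQ, pow_succ']; )), ?_, ?_, fun _ => ?_⟩
    · rw [RegularWreathProduct.card, hc, hcQ, ← pow_mul, ← pow_succ, val_factorial_pow_succ]
      congr 1
      ring
    · rw [hlog] at hb ⊢
      exact derivedSeries_wreath_bot mul_comm (k + 2) hb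
    · have := hn (Nat.one_le_pow _ _ (by norm_num))
      rw [hlog] at this ⊢
      exact derivedSeries_wreath_ne_bot (k + 1) this

theorem datum2_all {a : ℕ} (h1 : Datum2 F a 1) : ∀ w : ℕ, Datum2 F a w := by
  haveI : Fact (Nat.Prime 2) := ⟨Nat.prime_two⟩
  intro w
  induction w using Nat.strong_induction_on with
  | _ w ih =>
    rcases Nat.eq_zero_or_pos w with rfl | hw
    · refine ⟨PUnit, inferInstance, ⟨1, fun x y _ => Subsingleton.elim x y, fun _ _ _ => rfl⟩, by simp, ?_,
        fun h => absurd h (by norm_num)⟩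
      exact Subsingleton.elim _ _
    set k := Nat.log 2 w with hk
    have hle : 2 ^ k ≤ w := Nat.pow_log_le_self 2 hw.ne'
    rcases eq_or_lt_of_le hle with heq | hlt
    · rw [← heq]; exact datum2_pow h1 k
    obtain ⟨G, _, hφ, hcG, hbG, hnG⟩ := datum2_pow h1 k
    obtain ⟨H, _, hψ, hcH, hbH, -⟩ := ih (w - 2 ^ k) (Nat.sub_lt hw (pow_pos (by norm_num) k))
    have hlog : Nat.log 2 (2 ^ k) = k := Nat.log_pow one_lt_two k
    rw [hlog] at hbG hnG
    refine ⟨G × H, inferInstance, (hφ.prod hψ).reindex (Fintype.equivFinOfCardEq (by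
      rw [Fintype.card_sum, Fintype.card_fin, Fintype.card_fin, Nat.add_sub_cancel' hle])), ?_, ?_, fun _ hbot => ?_⟩
    · rw [Nat.card_prod, hcG, hcH, ← pow_add]
      congr 1
      have hch : padicValNat 2 (w.choose (2 ^ k)) = 0 := by
        rw [padicValNat_choose hle (Nat.lt_succ_self _), Finset.card_eq_zero, Finset.filter_eq_empty_iff]
        intro i hi
        rw [Finset.mem_Ico] at hi
        have hik : i ≤ k := Nat.lt_succ_iff.1 hi.2
        have h0 : 2 ^ k % 2 ^ i = 0 := Nat.mod_eq_zero_of_dvd (pow_dvd_pow 2 hik)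
        rw [h0, zero_add, not_le]
        exact Nat.mod_lt _ (pow_pos (by norm_num) i)
      have hval : padicValNat 2 w.factorial =
          padicValNat 2 (2 ^ k).factorial + padicValNat 2 (w - 2 ^ k).factorial := by
        rw [← Nat.choose_mul_factorial_mul_factorial hle,
          padicValNat.mul (Nat.mul_ne_zero (Nat.choose_pos hle).ne' (Nat.factorial_ne_zero _)) (Nat.factorial_ne_zero _),
          padicValNat.mul (Nat.choose_pos hle).ne' (Nat.factorial_ne_zero _), hch, zero_add]
      have hmul : a * w = a * 2 ^ k + a * (w - 2 ^ k) := by rw [← Nat.mul_add, Nat.add_sub_cancel' hle]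
      omega
    · refine derivedSeries_prod_bot _ hbG (eq_bot_iff.2 (le_trans (derivedSeries_antitone H ?_) hbH.le))
      exact Nat.add_le_add_right (hk ▸ Nat.log_mono_right (Nat.sub_le w _)) 2
    · refine hnG (Nat.one_le_pow _ _ (by norm_num)) (eq_bot_iff.2 fun x hx => ?_)
      have := map_derivedSeries_le_derivedSeries (MonoidHom.inl G H) (k + 1) (mem_map_of_mem _ hx)
      rw [← hk] at hbot
      rw [hbot, mem_bot] at this
      exact mem_bot.2 (congrArg Prod.fst this)

theorem exists_sp_model (hF : Odd (Fintype.card F)) (n : ℕ) (hn : 1 ≤ n) :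
    ∃ (G : Type) (_ : Group G) (f : G →* Matrix.symplecticGroup (Fin n) F), Function.Injective f ∧
      Nat.card G = 2 ^ padicValNat 2 (Nat.card (Matrix.symplecticGroup (Fin n) F)) ∧
      derivedSeries G (Nat.log 2 n + 2) = ⊥ ∧ derivedSeries G (Nat.log 2 n + 1) ≠ ⊥ := by
  classical
  haveI : Fact (Nat.Prime 2) := ⟨Nat.prime_two⟩
  obtain ⟨D, hD, hb2, hn1⟩ := exists_sl_meta hF
  obtain ⟨D₀, _, e, hD₀⟩ : ∃ (D₀ : Type) (_ : Group D₀) (_ : D₀ ≃* D), True :=
    ⟨Fin (Nat.card D), (Finite.equivFin D).symm.group, (Finite.equivFin D).symm.mulEquiv, trivial⟩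
  have h1 : Datum2 F (padicValNat 2 (Fintype.card F ^ 2 - 1)) 1 := by
    let φ₁ : D₀ →* Module.End F (Fin 1 → Fin 2 → F) :=
      { toFun := fun d => LinearMap.compLeft
          (Matrix.toLin' ((e d : SpecialLinearGroup (Fin 2) F) : Matrix (Fin 2) (Fin 2) F)) (Fin 1)
        map_one' := by
          refine LinearMap.ext fun f => funext fun i => ?_
          simp
        map_mul' := fun a b => by
          refine LinearMap.ext fun f => funext fun i => ?_
          simp [Matrix.toLin'_mul] }
    refine ⟨D₀, inferInstance, ⟨φ₁, fun a b h => ?_, fun d u v => ?_⟩, ?_, ?_, fun _ h => ?_⟩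
    · refine e.injective (Subtype.ext (Subtype.ext (Matrix.toLin'.injective (LinearMap.ext fun v => ?_))))
      exact congrFun (LinearMap.congr_fun h (fun _ => v)) 0
    · have hd := (e d : SpecialLinearGroup (Fin 2) F).2
      rw [Matrix.det_fin_two] at hd
      simp [om, φ₁, Matrix.mulVec, dotProduct, Fin.sum_univ_two]
      linear_combination (u 0 0 * v 0 1 - u 0 1 * v 0 0) * hd
    · rw [Nat.card_congr e.toEquiv, hD]
      simp
    · rw [Nat.log_one_right, ← map_derivedSeries_eq (f := e.symm.toMonoidHom) e.symm.surjective, hb2, Subgroup.map_bot]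
    · rw [Nat.log_one_right] at h
      exact hn1 (by rw [← map_derivedSeries_eq (f := e.toMonoidHom) e.surjective, h, Subgroup.map_bot])
  obtain ⟨G, _, ⟨φ, hφ, hom'⟩, hc, hb, hne⟩ := datum2_all h1 n
  let T : (Fin n → Fin 2 → F) ≃ₗ[F] (Fin n ⊕ Fin n → F) :=
    { toFun := fun u => Sum.elim (fun i => u i 0) (fun i => u i 1)
      invFun := fun x i => ![x (Sum.inl i), x (Sum.inr i)]
      map_add' := fun u v => by funext i; rcases i with i | i <;> rfl
      map_smul' := fun c u => by funext i; rcases i with i | i <;> rfl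
      left_inv := fun u => by funext i j; fin_cases j <;> rfl
      right_inv := fun x => by funext i; rcases i with i | i <;> rfl }
  have hT : ∀ u v, Cfsg.Lib.Classical.sympBilin n F (T u) (T v) = -om u v := fun u v => by
    rw [Cfsg.Lib.Classical.sympBilin_eq_sum, om, ← Finset.sum_neg_distrib]
    exact Finset.sum_congr rfl fun i _ => by simp [T]
  let M : G →* Matrix (Fin n ⊕ Fin n) (Fin n ⊕ Fin n) F :=
    (LinearMap.toMatrixAlgEquiv' (R := F) (n := Fin n ⊕ Fin n)).toMonoidHom.comp
      (T.conjRingEquiv.toMonoidHom.comp φ)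
  have hM : ∀ g, M g ∈ Matrix.symplecticGroup (Fin n) F := fun g => by
    rw [Cfsg.Lib.Classical.mem_symplectic_iff_form]
    intro x y
    have hMv : ∀ z, M g *ᵥ z = T (φ g (T.symm z)) := fun z => by
      rw [← Matrix.toLin'_apply]
      simp only [M, MonoidHom.coe_comp, Function.comp_apply]
      exact LinearMap.congr_fun (Matrix.toLin'_toMatrix' _) z
    rw [hMv, hMv, hT, hom', ← hT, T.apply_symm_apply, T.apply_symm_apply]
  refine ⟨G, inferInstance, M.codRestrict _ hM, fun a b h => hφ (T.conjRingEquiv.injective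
    ((LinearMap.toMatrixAlgEquiv' (R := F) (n := Fin n ⊕ Fin n)).injective (congrArg Subtype.val h))), ?_, hb, hne hn⟩
  have h1' : 1 < Fintype.card F := Fintype.one_lt_card
  have hP := padic_prod hF h1' n
  rw [hc, Cfsg.Lib.Classical.card_symplecticGroup, Nat.card_eq_fintype_card,
    padicValNat.mul (pow_ne_zero _ (by omega)) hP.1, hP.2,
    padicValNat.eq_zero_of_not_dvd (fun h => Nat.not_even_iff_odd.2 hF
      (even_iff_two_dvd.2 (Nat.prime_two.dvd_of_dvd_pow h)))]
  congr 1
  ring

end Cfsg.Lib.SpDerived
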