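import Mathlib

/-!
# A Sylow subgroup of a symmetric group is generated by elements of order `p`
-/

set_option autoImplicit false
set_option linter.unusedSectionVars false

namespace Cfsg.Lib.SymSylow

open Equiv

/-- Generated by its elements whose `p`-th power is trivial. -/
def Gen {G : Type*} [Group G] (p : ℕ) (H : Subgroup G) : Prop :=
  H ≤ Subgroup.closure {h : G | h ∈ H ∧ h ^ p = 1}

lemma Gen.map {G G' : Type*} [Group G] [Group G'] {p : ℕ} {H : Subgroup G} (h : Gen p H)
    (f : G →* G') : Gen p (H.map f) := by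
  refine (Subgroup.map_mono h).trans ?_
  rw [MonoidHom.map_closure]
  refine Subgroup.closure_mono ?_
  rintro _ ⟨x, ⟨hx, hxp⟩, rfl⟩
  exact ⟨Subgroup.mem_map_of_mem f hx, by rw [← map_pow, hxp, map_one]⟩

/-- Generators of order `p` force the abelianization to be elementary abelian. -/
lemma Gen.pow_mem_commutator {G : Type*} [Group G] {p : ℕ} {H : Subgroup G} (h : Gen p H) (x : H) :
    x ^ p ∈ commutator H := by
  have key : ∀ y (hy : y ∈ Subgroup.closure {z : G | z ∈ H ∧ z ^ p = 1}), ∀ hyH : y ∈ H,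
      Abelianization.of (⟨y, hyH⟩ : H) ^ p = 1 := by
    intro y hy
    suffices y ∈ H ∧ ∀ hyH : y ∈ H, Abelianization.of (⟨y, hyH⟩ : H) ^ p = 1 from this.2
    induction hy using Subgroup.closure_induction with
    | mem z hz =>
      refine ⟨hz.1, fun hzH => ?_⟩
      rw [← map_pow, show (⟨z, hzH⟩ : H) ^ p = 1 from Subtype.ext hz.2, map_one]
    | one => exact ⟨H.one_mem, fun h1 => by rw [show (⟨1, h1⟩ : H) = 1 from rfl, map_one, one_pow]⟩
    | mul a b _ _ ha hb =>
      refine ⟨H.mul_mem ha.1 hb.1, fun hab => ?_⟩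
      rw [show (⟨a * b, hab⟩ : H) = ⟨a, ha.1⟩ * ⟨b, hb.1⟩ from rfl, map_mul, mul_pow, ha.2, hb.2,
        one_mul]
    | inv a _ ha =>
      refine ⟨H.inv_mem ha.1, fun hai => ?_⟩
      rw [show (⟨a⁻¹, hai⟩ : H) = ⟨a, ha.1⟩⁻¹ from rfl, map_inv, inv_pow, ha.2, inv_one]
  have := key x (h x.2) x.2
  rw [← map_pow] at this
  exact (Abelianization.ker_of H).le this

/-- A subgroup of full `p`-part, generated by elements of order `p`, as is its even part. -/
def Good (p : ℕ) (α : Type) [Fintype α] [DecidableEq α] : Prop :=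
  ∃ W : Subgroup (Perm α), Nat.card W = p ^ (Fintype.card α).factorial.factorization p ∧ Gen p W ∧
    Gen p (W ⊓ alternatingGroup α)

lemma Good.congr {p : ℕ} {α β : Type} [Fintype α] [DecidableEq α] [Fintype β] [DecidableEq β]
    (h : Good p α) (e : α ≃ β) : Good p β := by
  obtain ⟨W, hc, hg, ha⟩ := h
  refine ⟨W.map e.permCongrHom.toMonoidHom, ?_, hg.map _, ?_⟩
  · rw [Subgroup.card_map_of_injective e.permCongrHom.injective, hc, Fintype.card_congr e]
  · have := ha.map e.permCongrHom.toMonoidHom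
    convert this using 1
    ext x
    simp only [Subgroup.mem_inf, Subgroup.mem_map, Perm.mem_alternatingGroup]
    constructor
    · rintro ⟨⟨w, hw, rfl⟩, hx⟩
      exact ⟨w, ⟨hw, (Perm.sign_permCongr e w).symm.trans hx⟩, rfl⟩
    · rintro ⟨w, ⟨hw, hs⟩, rfl⟩
      exact ⟨⟨w, hw, rfl⟩, (Perm.sign_permCongr e w).trans hs⟩

variable {p m : ℕ} [NeZero p]

/-- Translations inside the blocks. -/
def baseHom : Multiplicative (Fin m → ZMod p) →* Perm (Fin m × ZMod p) where
  toFun c :=
    { toFun := fun x => (x.1, x.2 + Multiplicative.toAdd c x.1)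
      invFun := fun x => (x.1, x.2 - Multiplicative.toAdd c x.1)
      left_inv := fun x => by simp
      right_inv := fun x => by simp }
  map_one' := by ext x <;> simp
  map_mul' a b := by ext x <;> simp <;> abel

/-- Permutations of the blocks. -/
def liftHom : Perm (Fin m) →* Perm (Fin m × ZMod p) where
  toFun σ := Equiv.prodCongrLeft fun _ => σ
  map_one' := by ext x <;> simp [Equiv.prodCongrLeft]
  map_mul' a b := by ext x <;> simp [Equiv.prodCongrLeft]

lemma baseHom_apply (c : Multiplicative (Fin m → ZMod p)) (i : Fin m) (j : ZMod p) :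
    baseHom c (i, j) = (i, j + Multiplicative.toAdd c i) := rfl

lemma liftHom_apply (σ : Perm (Fin m)) (i : Fin m) (j : ZMod p) :
    (liftHom σ : Perm (Fin m × ZMod p)) (i, j) = (σ i, j) := rfl

lemma lift_mul_base (σ : Perm (Fin m)) (c : Fin m → ZMod p) :
    (liftHom σ : Perm (Fin m × ZMod p)) * baseHom (Multiplicative.ofAdd c) =
      baseHom (Multiplicative.ofAdd (c ∘ σ.symm)) * liftHom σ := by
  refine Equiv.ext fun ⟨i, j⟩ => ?_
  simp [baseHom_apply, liftHom_apply]

/-- The wreath subgroup over a group of block permutations. -/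
def wreathSub (Q : Subgroup (Perm (Fin m))) : Subgroup (Perm (Fin m × ZMod p)) where
  carrier := {π | ∃ c : Fin m → ZMod p, ∃ σ ∈ Q, π = baseHom (Multiplicative.ofAdd c) * liftHom σ}
  one_mem' := ⟨0, 1, Q.one_mem, by simp⟩
  mul_mem' := by
    rintro _ _ ⟨c, σ, hσ, rfl⟩ ⟨d, τ, hτ, rfl⟩
    refine ⟨c + d ∘ σ.symm, σ * τ, Q.mul_mem hσ hτ, ?_⟩
    rw [mul_assoc, ← mul_assoc (liftHom σ), lift_mul_base, ofAdd_add, map_mul, map_mul]
    simp only [mul_assoc]
  inv_mem' := by
    rintro _ ⟨c, σ, hσ, rfl⟩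
    refine ⟨(-c) ∘ σ, σ⁻¹, Q.inv_mem hσ, ?_⟩
    rw [mul_inv_rev, ← map_inv, ← map_inv, ← ofAdd_neg]
    exact lift_mul_base σ⁻¹ (-c)

lemma card_wreathSub (Q : Subgroup (Perm (Fin m))) :
    Nat.card (wreathSub (p := p) Q) = p ^ m * Nat.card Q := by
  let f : (Fin m → ZMod p) × Q → wreathSub (p := p) Q := fun x =>
    ⟨_, x.1, x.2, x.2.2, rfl⟩
  have hf : Function.Bijective f := by
    refine ⟨fun x y h => ?_, fun ⟨π, c, σ, hσ, h⟩ => ⟨(c, ⟨σ, hσ⟩), Subtype.ext h.symm⟩⟩
    have h1 : ∀ (i : Fin m) (j : ZMod p), _ = _ := fun i j =>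
      congrArg (fun π : wreathSub (p := p) Q => (π : Perm (Fin m × ZMod p)) (i, j)) h
    simp only [f, Perm.coe_mul, Function.comp_apply, liftHom_apply, baseHom_apply, toAdd_ofAdd,
      Prod.mk.injEq, add_right_inj] at h1
    have hσ : x.2 = y.2 := Subtype.ext (Equiv.ext fun i => (h1 i 0).1)
    refine Prod.ext (funext fun k => ?_) hσ
    have := (h1 ((x.2 : Perm (Fin m)).symm k) 0).2
    rwa [← hσ, Equiv.apply_symm_apply] at this
  rw [← Nat.card_congr (Equiv.ofBijective f hf), Nat.card_prod, Nat.card_fun, Nat.card_fin,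
    Nat.card_zmod]

lemma base_pow (c : Multiplicative (Fin m → ZMod p)) : baseHom c ^ p = 1 := by
  rw [← map_pow, show c ^ p = 1 from ?_, map_one]
  apply Multiplicative.toAdd.injective
  funext i
  simp

theorem good_step [hp : Fact p.Prime] (h : Good p (Fin m)) : Good p (Fin m × ZMod p) := by
  obtain ⟨Q, hc, hg, -⟩ := h
  refine ⟨wreathSub Q, ?_, ?_, ?_⟩
  · rw [card_wreathSub, hc, Fintype.card_prod, Fintype.card_fin, ZMod.card, ← pow_add,
      Nat.factorization_def _ hp.out, Nat.factorization_def _ hp.out, mul_comm m p,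
      padicValNat_factorial_mul, add_comm]
  · rintro _ ⟨c, σ, hσ, rfl⟩
    refine Subgroup.mul_mem _ (Subgroup.subset_closure ⟨⟨c, 1, Q.one_mem, by simp⟩, base_pow _⟩) ?_
    have := (hg.map (liftHom (p := p))) (Subgroup.mem_map_of_mem _ hσ)
    refine Subgroup.closure_mono ?_ this
    rintro _ ⟨⟨τ, hτ, rfl⟩, hp'⟩
    exact ⟨⟨0, τ, hτ, by simp⟩, hp'⟩
  · have hsign : ∀ σ ∈ Q, Perm.sign (liftHom σ : Perm (Fin m × ZMod p)) = 1 := by
      intro σ hσ
      show Perm.sign (Equiv.prodCongrLeft fun _ : ZMod p => σ) = 1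
      rw [Perm.sign_prodCongrLeft, Finset.prod_const, Finset.card_univ, ZMod.card]
      have hle : Subgroup.closure {τ : Perm (Fin m) | τ ∈ Q ∧ τ ^ p = 1} ≤
          (Perm.sign ^ p : Perm (Fin m) →* ℤˣ).ker := by
        rw [Subgroup.closure_le]
        rintro τ ⟨-, hτ⟩
        show Perm.sign τ ^ p = 1
        rw [← map_pow, hτ, map_one]
      exact hle (hg hσ)
    rintro _ ⟨⟨c, σ, hσ, rfl⟩, hx⟩
    have hb : Perm.sign (baseHom (Multiplicative.ofAdd c) : Perm (Fin m × ZMod p)) = 1 := by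
      have : Perm.sign (baseHom (Multiplicative.ofAdd c) * liftHom σ : Perm (Fin m × ZMod p)) = 1 :=
        Perm.mem_alternatingGroup.1 hx
      rwa [map_mul, hsign σ hσ, mul_one] at this
    refine Subgroup.mul_mem _ (Subgroup.subset_closure
      ⟨⟨⟨c, 1, Q.one_mem, by simp⟩, Perm.mem_alternatingGroup.2 hb⟩, base_pow _⟩) ?_
    have := (hg.map (liftHom (p := p))) (Subgroup.mem_map_of_mem _ hσ)
    refine Subgroup.closure_mono ?_ this
    rintro _ ⟨⟨τ, hτ, rfl⟩, hp'⟩
    exact ⟨⟨⟨0, τ, hτ, by simp⟩, Perm.mem_alternatingGroup.2 (hsign τ hτ)⟩, hp'⟩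

theorem good_add [hp : Fact p.Prime] {α : Type} [Fintype α] [DecidableEq α] (h : Good p α) {k : ℕ}
    (hk : Fintype.card α = p * k) {r : ℕ} (hr : r < p) : Good p (α ⊕ Fin r) := by
  obtain ⟨W, hc, hg, ha⟩ := h
  set f : Perm α →* Perm (α ⊕ Fin r) :=
    (Perm.sumCongrHom α (Fin r)).comp (MonoidHom.inl _ _) with hf
  have hfi : Function.Injective f :=
    Perm.sumCongrHom_injective.comp fun a b h => congrArg Prod.fst h
  have hs : ∀ w : Perm α, Perm.sign (f w) = Perm.sign w := fun w => by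
    show Perm.sign (Equiv.sumCongr w (1 : Perm (Fin r))) = _
    rw [Perm.sign_sumCongr, map_one, mul_one]
  refine ⟨W.map f, ?_, hg.map _, ?_⟩
  · rw [Subgroup.card_map_of_injective hfi, hc, Fintype.card_sum, Fintype.card_fin, hk,
      Nat.factorization_def _ hp.out, Nat.factorization_def _ hp.out, padicValNat_factorial_mul_add _ hr]
  · have := ha.map f
    convert this using 1
    ext x
    simp only [Subgroup.mem_inf, Subgroup.mem_map, Perm.mem_alternatingGroup]
    constructor
    · rintro ⟨⟨w, hw, rfl⟩, hx⟩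
      exact ⟨w, ⟨hw, (hs w).symm.trans hx⟩, rfl⟩
    · rintro ⟨w, ⟨hw, hs'⟩, rfl⟩
      exact ⟨⟨w, hw, rfl⟩, (hs w).trans hs'⟩

theorem good_all (p : ℕ) [hp : Fact p.Prime] (n : ℕ) : Good p (Fin n) := by
  haveI : NeZero p := ⟨hp.out.ne_zero⟩
  induction n using Nat.strong_induction_on with
  | _ n ih =>
    rcases Nat.eq_zero_or_pos n with rfl | hn
    · refine ⟨⊥, by simp, bot_le, ?_⟩
      rw [bot_inf_eq]; exact bot_le
    · have h := good_add (good_step (m := n / p) (ih _ (Nat.div_lt_self hn hp.out.one_lt))) (k := n / p)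
        (by simp [mul_comm]) (r := n % p) (Nat.mod_lt _ hp.out.pos)
      exact h.congr (Fintype.equivOfCardEq (by simp [Nat.mul_comm, Nat.div_add_mod]))

/-- The Sylow subgroups of the symmetric and alternating groups. -/
theorem sylow_gen (p n : ℕ) [hp : Fact p.Prime] (P : Sylow p (Perm (Fin n)))
    (Q : Sylow p (alternatingGroup (Fin n))) :
    Gen p (P : Subgroup (Perm (Fin n))) ∧ Gen p (Q : Subgroup (alternatingGroup (Fin n))) := by
  obtain ⟨W, hc, hg, ha⟩ := good_all p n
  have hcard : Nat.card W = p ^ (Nat.card (Perm (Fin n))).factorization p := by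
    rw [hc, Nat.card_perm, Nat.card_fin, Fintype.card_fin]
  set W' := Sylow.ofCard W hcard with hW'
  have conjCase : ∀ T : Sylow p (Perm (Fin n)),
      ∃ g : Perm (Fin n), (T : Subgroup (Perm (Fin n))) = W.map (MulAut.conj g).toMonoidHom := by
    intro T
    obtain ⟨g, hg'⟩ := MulAction.exists_smul_eq (Perm (Fin n)) W' T
    exact ⟨g, by rw [← hg', Sylow.coe_subgroup_smul]; rfl⟩
  constructor
  · obtain ⟨g, hgT⟩ := conjCase P
    rw [hgT]; exact hg.map _
  · obtain ⟨T, hT⟩ := (Q.2.map (alternatingGroup (Fin n)).subtype).exists_le_sylow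
    obtain ⟨g, hgT⟩ := conjCase T
    have hQ : (Q : Subgroup (alternatingGroup (Fin n))) =
        (T : Subgroup (Perm (Fin n))).subgroupOf (alternatingGroup (Fin n)) :=
      (Q.3 T.2.comap_subtype fun x hx => hT ⟨x, hx, rfl⟩).symm
    have hmap : (Q : Subgroup (alternatingGroup (Fin n))).map (alternatingGroup (Fin n)).subtype =
        (W ⊓ alternatingGroup (Fin n)).map (MulAut.conj g).toMonoidHom := by
      rw [hQ, Subgroup.subgroupOf_map_subtype, hgT,
        Subgroup.map_inf _ _ _ (MulAut.conj g).injective]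
      congr 1
      ext x
      rw [Subgroup.mem_map_equiv]
      simp [Perm.mem_alternatingGroup]
      rw [mul_comm (Perm.sign g), mul_assoc, Int.units_mul_self, mul_one]
    have hgen := ha.map (MulAut.conj g).toMonoidHom
    rw [← hmap] at hgen
    intro x hx
    have := hgen (Subgroup.mem_map_of_mem (alternatingGroup (Fin n)).subtype hx)
    have hle : Subgroup.closure {h | h ∈ (Q : Subgroup (alternatingGroup (Fin n))).map
        (alternatingGroup (Fin n)).subtype ∧ h ^ p = 1} ≤ (Subgroup.closure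
          {h : alternatingGroup (Fin n) | h ∈ (Q : Subgroup (alternatingGroup (Fin n))) ∧ h ^ p = 1}).map
          (alternatingGroup (Fin n)).subtype := by
      rw [MonoidHom.map_closure]
      refine Subgroup.closure_mono ?_
      rintro _ ⟨⟨y, hy, rfl⟩, hyp⟩
      exact ⟨y, ⟨hy, Subtype.ext hyp⟩, rfl⟩
    obtain ⟨y, hy, hyx⟩ := hle this
    rwa [← Subtype.ext (a1 := y) (a2 := x) hyx]

end Cfsg.Lib.SymSylow
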